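import Mathlib
import Cfsg.Agent.AschCrit.PSUTorus
import Cfsg.Agent.LieClassical.HermBasic
import Cfsg.Agent.LieClassical.SUBasic
import Cfsg.Agent.FastGrp
import Cfsg.Agent.Prune
set_option linter.all false

section
prune_inst 0x7f00000000000000000000000000000000000000000000000000000000000000000000000000000000000000000000000000000000000000000000000000000000000000000000000000000000000000003fffffffffffffffffffffffffffbeffbdffffffff

-- part: H372/U3Num
section
set_option linter.all false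
open scoped Cfsg.Agent.FastGrp

/-!
# Arithmetic of `n = (q² - q + 1)/d`, `d = gcd(3, q + 1)`, `q = 2 ^ m`
-/

set_option autoImplicit false

namespace Cfsg.Agent.H372.U3

/-- `d = gcd(3, q+1)` -/
def dd (q : ℕ) : ℕ := Nat.gcd 3 (q + 1)

/-- `n = (q² - q + 1)/d` -/
def nn (q : ℕ) : ℕ := (q ^ 2 - q + 1) / dd q

theorem dd_pos (q : ℕ) : 0 < dd q := Nat.gcd_pos_of_pos_left _ (by norm_num)

theorem dd_cases (q : ℕ) : (dd q = 1 ∧ ¬ 3 ∣ q + 1) ∨ (dd q = 3 ∧ 3 ∣ q + 1) := by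
  have h : dd q ∣ 3 := Nat.gcd_dvd_left 3 (q + 1)
  rcases (Nat.dvd_prime Nat.prime_three).1 h with h1 | h1
  · left
    refine ⟨h1, fun h3 => ?_⟩
    have : 3 ∣ dd q := Nat.dvd_gcd dvd_rfl h3
    rw [h1] at this
    omega
  · right
    exact ⟨h1, h1 ▸ Nat.gcd_dvd_right 3 (q + 1)⟩

theorem dd_dvd_succ (q : ℕ) : dd q ∣ q + 1 := Nat.gcd_dvd_right 3 (q + 1)

theorem sq_eq {q : ℕ} (hq : 1 ≤ q) : ∃ t, q = t + 1 ∧ q ^ 2 - q + 1 = t ^ 2 + t + 1 ∧ q ^ 2 - 1 = t * (t + 2) := by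
  obtain ⟨t, rfl⟩ := Nat.exists_eq_add_of_le' hq
  refine ⟨t, rfl, ?_, ?_⟩
  · have : (t + 1) ^ 2 = t ^ 2 + t + (t + 1) := by ring
    rw [this, Nat.add_sub_cancel]
  · have : (t + 1) ^ 2 = t * (t + 2) + 1 := by ring
    rw [this, Nat.add_sub_cancel]

theorem dd_dvd {q : ℕ} (hq : 1 ≤ q) : dd q ∣ q ^ 2 - q + 1 := by
  rcases dd_cases q with ⟨h, -⟩ | ⟨h, h3⟩
  · rw [h]; exact one_dvd _
  · obtain ⟨t, rfl, e, -⟩ := sq_eq hq
    rw [h, e]
    have : 3 ∣ (t + 2) * (t + 2) - 3 * (t + 1) := Nat.dvd_sub (Dvd.dvd.mul_right h3 _) (dvd_mul_right 3 _)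
    have h2 : (t + 2) * (t + 2) - 3 * (t + 1) = t ^ 2 + t + 1 := by
      apply Nat.sub_eq_of_eq_add
      ring
    rwa [h2] at this

theorem dd_mul_nn {q : ℕ} (hq : 1 ≤ q) : dd q * nn q = q ^ 2 - q + 1 := Nat.mul_div_cancel' (dd_dvd hq)

theorem nn_dvd {q : ℕ} (hq : 1 ≤ q) : nn q ∣ q ^ 2 - q + 1 := ⟨dd q, by rw [mul_comm, dd_mul_nn hq]⟩

/-- `n` is odd -/
theorem nn_odd {q : ℕ} (hq : 1 ≤ q) : Odd (nn q) := by
  obtain ⟨t, rfl, e, -⟩ := sq_eq hq
  have h := nn_dvd hq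
  rw [e] at h
  apply Odd.of_dvd_nat _ h
  obtain ⟨j, hj⟩ := Nat.even_mul_succ_self t
  exact ⟨j, by have : t ^ 2 + t = t * (t + 1) := by ring
               omega⟩

/-- `n` is prime to `3` -/
theorem nn_coprime_three {q : ℕ} (hq : 1 ≤ q) : ¬ 3 ∣ nn q := by
  intro h3
  obtain ⟨t, rfl, e, -⟩ := sq_eq hq
  have h := dd_mul_nn hq
  rw [e] at h
  rcases dd_cases (t + 1) with ⟨h1, h2⟩ | ⟨h1, h2⟩
  · rw [h1, one_mul] at h
    rw [h] at h3
    have ht : t % 3 = 0 ∨ t % 3 = 1 ∨ t % 3 = 2 := by omega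
    obtain ⟨k, hk⟩ : ∃ k, t = 3 * k ∨ t = 3 * k + 1 ∨ t = 3 * k + 2 := ⟨t / 3, by omega⟩
    obtain ⟨j, hj⟩ := h3
    rcases hk with rfl | rfl | rfl
    · ring_nf at hj; omega
    · apply h2; omega
    · ring_nf at hj; omega
  · rw [h1] at h
    obtain ⟨j, hj⟩ := h3
    obtain ⟨k, hk⟩ := h2
    obtain ⟨l, rfl⟩ : ∃ l, t = 3 * l + 1 := ⟨k - 1, by omega⟩
    rw [hj] at h
    ring_nf at h
    omega

theorem nn_coprime_succ {q : ℕ} (hq : 1 ≤ q) : Nat.Coprime (nn q) (q + 1) := by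
  rw [Nat.coprime_iff_gcd_eq_one]
  by_contra hcon
  obtain ⟨p, hp, hpd⟩ := Nat.exists_prime_and_dvd hcon
  have h1 : p ∣ nn q := hpd.trans (Nat.gcd_dvd_left _ _)
  have h2 : p ∣ q + 1 := hpd.trans (Nat.gcd_dvd_right _ _)
  have h3 : p ∣ q ^ 2 - q + 1 := h1.trans (nn_dvd hq)
  have h4 : p ∣ 3 * q := by
    have : 3 * q = (q + 1) * (q + 1) - (q ^ 2 - q + 1) := by
      obtain ⟨t, rfl, e, -⟩ := sq_eq hq
      rw [e]
      symm
      apply Nat.sub_eq_of_eq_add
      ring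
    rw [this]
    exact Nat.dvd_sub (Dvd.dvd.mul_right h2 _) h3
  rcases (Nat.Prime.dvd_mul hp).1 h4 with h5 | h5
  · have : p = 3 := (Nat.prime_dvd_prime_iff_eq hp Nat.prime_three).1 h5
    subst this
    exact nn_coprime_three hq h1
  · have : p ∣ 1 := by
      have := Nat.dvd_sub h2 h5
      rwa [Nat.add_sub_cancel_left] at this
    exact hp.one_lt.ne' (Nat.dvd_one.1 this)

theorem nn_coprime_pred {q : ℕ} (hq : 1 ≤ q) : Nat.Coprime (nn q) (q - 1) := by
  obtain ⟨t, rfl, e, -⟩ := sq_eq hq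
  rw [Nat.add_sub_cancel]
  have h : Nat.Coprime (t ^ 2 + t + 1) t := by
    have : t ^ 2 + t + 1 = t * (t + 1) + 1 := by ring
    rw [this]
    simp
  have h2 := nn_dvd hq
  rw [e] at h2
  exact Nat.Coprime.coprime_dvd_left h2 h

theorem nn_coprime_sq {q : ℕ} (hq : 1 ≤ q) : Nat.Coprime (nn q) (q ^ 2 - 1) := by
  obtain ⟨t, rfl, -, e⟩ := sq_eq hq
  rw [e]
  exact Nat.Coprime.mul_right (by have := nn_coprime_pred hq; rwa [Nat.add_sub_cancel] at this)
    (nn_coprime_succ hq)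

theorem nn_coprime_self {q : ℕ} (hq : 1 ≤ q) : Nat.Coprime (nn q) q := by
  have h : Nat.Coprime (q ^ 2 - q + 1) q := by
    obtain ⟨t, rfl, e, -⟩ := sq_eq hq
    rw [e]
    have : t ^ 2 + t + 1 = (t + 1) * t + 1 := by ring
    rw [this]
    simp
  exact Nat.Coprime.coprime_dvd_left (nn_dvd hq) h

/-- `n` divides `q³ + 1` -/
theorem nn_dvd_cube {q : ℕ} (hq : 1 ≤ q) : nn q ∣ q ^ 3 + 1 := by
  have : q ^ 3 + 1 = (q ^ 2 - q + 1) * (q + 1) := by
    obtain ⟨t, rfl, e, -⟩ := sq_eq hq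
    rw [e]
    ring
  rw [this]
  exact (nn_dvd hq).mul_right _

section prime

variable {q p : ℕ} (hq : 1 ≤ q) (hp : p.Prime) (hpn : p ∣ nn q)
include hq hp hpn

theorem prime_ne_two : p ≠ 2 := by
  rintro rfl
  have := nn_odd hq
  rw [← Nat.not_even_iff_odd] at this
  exact this (even_iff_two_dvd.2 hpn)

theorem not_dvd_of_coprime {a : ℕ} (h : Nat.Coprime (nn q) a) : ¬ p ∣ a := by
  intro ha
  have h1 : p ∣ Nat.gcd (nn q) a := Nat.dvd_gcd hpn ha
  rw [h] at h1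
  exact hp.one_lt.ne' (Nat.dvd_one.1 h1)

theorem not_dvd_sq : ¬ p ∣ q ^ 2 - 1 := not_dvd_of_coprime hq hp hpn (nn_coprime_sq hq)

theorem dvd_six : p ∣ q ^ 6 - 1 := by
  have e : q ^ 6 - 1 = (q ^ 3 + 1) * (q ^ 3 - 1) := by
    have h1 : 1 ≤ q ^ 3 := Nat.one_le_pow _ _ hq
    obtain ⟨t, ht⟩ := Nat.exists_eq_add_of_le' h1
    have : q ^ 6 = (t + 1) ^ 2 := by rw [← ht]; ring
    rw [this, ht, Nat.add_sub_cancel]
    apply Nat.sub_eq_of_eq_add
    ring
  rw [e]
  exact (hpn.trans (nn_dvd_cube hq)).mul_right _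

end prime

end Cfsg.Agent.H372.U3
end

-- part: H372/U3Str
section
set_option linter.all false
open scoped Cfsg.Agent.FastGrp

-- part: H372/U3Model
section
/-!
# A model of `PSU₃(2^n)` with its torus
-/

set_option autoImplicit false
set_option linter.unusedSectionVars false

namespace Cfsg.Agent.H372.U3

open Matrix Cfsg.Agent.LieRecognition Cfsg.Agent.LieRecognition.HermHeis
  Cfsg.Agent.LieRecognition.PSUThreeSylow Cfsg.Agent.LieRecognition.RankOneAbstract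
  Cfsg.Agent.SuzukiRankOne Cfsg.Agent.SuzukiRankOne.PSUModel Cfsg.Agent.AschCrit.PSUTorus

variable {F : Type*} [Field F] [CharP F 2] {σ : F →+* F} [hσ : Fact (∀ x, σ (σ x) = x)]

/-- The diagonal element. -/
def dgJ (σ : F →+* F) [hσ : Fact (∀ x, σ (σ x) = x)] (α : Fˣ) : SUJ σ :=
  ⟨⟨!![(α : F), 0, 0; 0, σ α / α, 0; 0, 0, (σ α)⁻¹], by
    have h0 : (α : F) ≠ 0 := α.ne_zero
    have h1 : σ (α : F) ≠ 0 := (map_ne_zero σ).mpr h0
    rw [Matrix.det_fin_three]
    simp only [_root_.Fin.isValue, _root_.Matrix.of_apply, _root_.Matrix.cons_val', _root_.Matrix.cons_val_zero, _root_.Matrix.cons_val_fin_one, _root_.Matrix.cons_val_one, _root_.Matrix.cons_val, _root_.MulZeroClass.mul_zero, _root_.sub_zero, _root_.MulZeroClass.zero_mul, _root_.add_zero]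
    field_simp⟩, by
    have h0 : (α : F) ≠ 0 := α.ne_zero
    have h1 : σ (α : F) ≠ 0 := (map_ne_zero σ).mpr h0
    change (!![(α : F), 0, 0; 0, σ α / α, 0; 0, 0, (σ α)⁻¹] : Matrix (Fin 3) (Fin 3) F)ᵀ * Jm F *
      (!![(α : F), 0, 0; 0, σ α / α, 0; 0, 0, (σ α)⁻¹] : Matrix (Fin 3) (Fin 3) F).map σ = Jm F
    ext i j
    (revert i j; simp only [Jm, Matrix.mul_apply, Fin.sum_univ_three, Matrix.transpose_apply, HermHeis.sig, _root_.Fin.forall_fin_succ, _root_.Matrix.of_apply, _root_.Matrix.cons_val', _root_.Matrix.cons_val_fin_one, Fin.isValue, _root_.Matrix.cons_val_zero, _root_.Matrix.cons_val_one, _root_.Matrix.cons_val, _root_.Matrix.map_apply, _root_.MulZeroClass.mul_zero, _root_.add_zero, _root_.mul_one, _root_.zero_add, _root_.map_zero, _root_.Matrix.cons_val_succ, _root_.map_div₀, _root_.Cfsg.Agent.LieRecognition.HermHeis.sig, _root_.map_inv₀, _root_.forall_const, _root_.MulZeroClass.zero_mul, _root_.ne_eq, _root_.Units.ne_zero,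 _root_.not_false_eq_true, _root_.mul_inv_cancel₀, _root_.and_self, _root_.map_eq_zero, _root_.div_mul_div_cancel₀', _root_.div_self, _root_.inv_mul_cancel₀, _root_.implies_true])⟩

theorem dgJ_val (α : Fˣ) : (dgJ σ α).1.1 = !![(α : F), 0, 0; 0, σ α / α, 0; 0, 0, (σ α)⁻¹] := rfl

/-- The torus as a homomorphism. -/
def dgHom (σ : F →+* F) [hσ : Fact (∀ x, σ (σ x) = x)] : Fˣ →* SUJ σ where
  toFun := dgJ σ
  map_one' := by
    apply Subtype.ext
    apply Subtype.ext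
    change (dgJ σ 1).1.1 = 1
    rw [dgJ_val]
    ext i j
    (revert i j; simp only [_root_.Fin.forall_fin_succ, _root_.Units.val_one, _root_.map_one, _root_.ne_eq, _root_.one_ne_zero, _root_.not_false_eq_true, _root_.div_self, _root_.inv_one, _root_.Matrix.of_apply, _root_.Matrix.cons_val', _root_.Matrix.cons_val_fin_one, Fin.isValue, _root_.Matrix.cons_val_zero, _root_.Matrix.cons_val_succ, _root_.IsEmpty.forall_iff, _root_.and_true, _root_.Matrix.one_apply_eq, Nat.reduceAdd, _root_.Fin.succ_zero_eq_one, _root_.zero_ne_one, _root_.Matrix.one_apply_ne, _root_.Fin.succ_one_eq_two, Fin.reduceEq, _root_.and_self, _root_.Fin.succ_ne_zero, _root_.true_and])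
  map_mul' α β := by
    apply Subtype.ext
    apply Subtype.ext
    change (dgJ σ (α * β)).1.1 = (dgJ σ α).1.1 * (dgJ σ β).1.1
    rw [dgJ_val, dgJ_val, dgJ_val]
    have h0 : (α : F) ≠ 0 := α.ne_zero
    have h1 : σ (α : F) ≠ 0 := (map_ne_zero σ).mpr h0
    have h2 : (β : F) ≠ 0 := β.ne_zero
    have h3 : σ (β : F) ≠ 0 := (map_ne_zero σ).mpr h2
    ext i j
    (revert i j; simp only [Matrix.mul_apply, Fin.sum_univ_three, _root_.Fin.forall_fin_succ, _root_.Units.val_mul, _root_.map_mul, _root_.mul_inv_rev, _root_.Matrix.of_apply, _root_.Matrix.cons_val', _root_.Matrix.cons_val_fin_one, Fin.isValue, _root_.Matrix.cons_val_zero, _root_.Matrix.cons_val_one, _root_.Matrix.cons_val, _root_.MulZeroClass.mul_zero, _root_.add_zero, _root_.Matrix.cons_val_succ, _root_.zero_add, _root_.forall_const, _root_.MulZeroClass.zero_mul, _root_.and_true, _root_.true_and]) <;> (repeat' with_reducible apply And.intro)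
    · field_simp
    · field_simp

theorem dg_mul_emb (α : Fˣ) (x : Heis σ) : dgHom σ α * emb σ x = emb σ (scal (α : F) α.ne_zero x) * dgHom σ α := by
  have h0 : (α : F) ≠ 0 := α.ne_zero
  have h1 : σ (α : F) ≠ 0 := (map_ne_zero σ).mpr h0
  apply Subtype.ext
  apply Subtype.ext
  change (dgJ σ α).1.1 * umat x = umat (scal (α : F) α.ne_zero x) * (dgJ σ α).1.1
  rw [dgJ_val]
  ext i j
  (revert i j; simp only [umat, scal, Matrix.mul_apply, Fin.sum_univ_three, HermHeis.sig, _root_.Fin.forall_fin_succ, _root_.Matrix.of_apply, _root_.Matrix.cons_val', _root_.Matrix.cons_val_fin_one, Fin.isValue, _root_.Matrix.cons_val_zero, _root_.Matrix.cons_val_one, _root_.Matrix.cons_val, _root_.map_mul, _root_.map_div₀, _root_.map_pow, _root_.Cfsg.Agent.LieRecognition.HermHeis.sig, _root_.mul_one, _root_.MulZeroClass.mul_zero, _root_.add_zero, _root_.Matrix.cons_val_succ, _root_.zero_add, _root_.forall_const, _root_.one_mul, _root_.MulZeroClass.zero_mul,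 _root_.implies_true, _root_.and_true, _root_.true_and]) <;> (repeat' with_reducible apply And.intro)
  · field_simp
  · field_simp
  · field_simp

/-- The image of a unit under `σ`. -/
def su (σ : F →+* F) (α : Fˣ) : Fˣ := Units.map (σ : F →* F) α

theorem wel_dg_wel (α : Fˣ) : wel σ * dgHom σ α * wel σ = dgHom σ (su σ α)⁻¹ := by
  have h0 : (α : F) ≠ 0 := α.ne_zero
  have h1 : σ (α : F) ≠ 0 := (map_ne_zero σ).mpr h0
  have h2 : (((su σ α)⁻¹ : Fˣ) : F) = (σ (α : F))⁻¹ := by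
    rw [Units.val_inv_eq_inv_val]; rfl
  apply Subtype.ext
  apply Subtype.ext
  change Jm F * (dgJ σ α).1.1 * Jm F = (dgJ σ (su σ α)⁻¹).1.1
  rw [dgJ_val, dgJ_val, h2]
  ext i j
  (revert i j; simp only [Jm, Matrix.mul_apply, Fin.sum_univ_three, HermHeis.sig, _root_.Fin.forall_fin_succ, _root_.Matrix.cons_mul, _root_.Nat.succ_eq_add_one, Nat.reduceAdd, _root_.Matrix.vecMul_cons, _root_.Matrix.head_cons, _root_.zero_smul, _root_.Matrix.tail_cons, _root_.one_smul, _root_.Matrix.empty_vecMul, _root_.add_zero, _root_.zero_add, _root_.Matrix.empty_mul, _root_.Equiv.symm_apply_apply, _root_.Matrix.of_apply, _root_.Matrix.cons_val', _root_.Matrix.cons_val_fin_one, Fin.isValue, _root_.Matrix.cons_val_zero, _root_.Matrix.cons_val_one, _root_.Matrix.cons_val, _root_.map_inv₀, _root_.Cfsg.Agent.LieRecognition.HermHeis.sig, _root_.div_inv_eq_mul, _root_.inv_inv, _root_.MulZeroClass.mul_zero, _root_.mul_one, _root_.Matrix.cons_val_succ,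 _root_.implies_true, _root_.and_true, _root_.true_and]) <;> (repeat' with_reducible apply And.intro)
  field_simp

theorem dg_mem_borel (α : Fˣ) : dgHom σ α ∈ _root_.Cfsg.Agent.SuzukiRankOne.PSUModel.borel σ := by
  rw [mem_borel]
  change (dgJ σ α).1.1 1 0 = 0 ∧ (dgJ σ α).1.1 2 0 = 0
  rw [dgJ_val]
  simp

theorem emb_mem_borel (x : Heis σ) : emb σ x ∈ _root_.Cfsg.Agent.SuzukiRankOne.PSUModel.borel σ := data_SUJ.le ⟨x, rfl⟩

/-- The elements of the Borel subgroup. -/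
theorem mem_borel_iff (g : SUJ σ) : g ∈ _root_.Cfsg.Agent.SuzukiRankOne.PSUModel.borel σ ↔ ∃ (x : Heis σ) (α : Fˣ), g = emb σ x * dgHom σ α := by
  constructor
  swap
  · rintro ⟨x, α, rfl⟩
    exact (_root_.Cfsg.Agent.SuzukiRankOne.PSUModel.borel σ).mul_mem (emb_mem_borel x) (dg_mem_borel α)
  intro hg
  have h0 : g.1.1 0 0 ≠ 0 := by
    intro h0
    have hdet : g.1.1.det = 1 := g.1.2
    rw [Matrix.det_fin_three, hg.1, hg.2, h0] at hdet
    simp only [_root_.Fin.isValue, _root_.MulZeroClass.zero_mul, _root_.sub_self, _root_.MulZeroClass.mul_zero, _root_.add_zero, _root_.zero_ne_one] at hdet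
  obtain ⟨α, hα⟩ : ∃ α : Fˣ, (α : F) = g.1.1 0 0 := ⟨Units.mk0 _ h0, rfl⟩
  have hi : (g * dgHom σ α⁻¹).1.1 = g.1.1 * (dgJ σ α⁻¹).1.1 := rfl
  have hcol : ∀ i, (g * dgHom σ α⁻¹).1.1 i 0 = g.1.1 i 0 * (α : F)⁻¹ := by
    intro i
    rw [hi, dgJ_val, Matrix.mul_apply, Fin.sum_univ_three]
    simp only [_root_.Fin.isValue, _root_.Units.val_inv_eq_inv_val, _root_.map_inv₀, _root_.div_inv_eq_mul, _root_.inv_inv, _root_.Matrix.of_apply, _root_.Matrix.cons_val', _root_.Matrix.cons_val_zero, _root_.Matrix.cons_val_fin_one, _root_.Matrix.cons_val_one, _root_.MulZeroClass.mul_zero, _root_.add_zero, _root_.Matrix.cons_val]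
  have hmem : g * dgHom σ α⁻¹ ∈ (emb σ).range := by
    apply mem_range_of_col
    · rw [hcol, hα, mul_inv_cancel₀ h0]
    · rw [hcol, hg.1, zero_mul]
    · rw [hcol, hg.2, zero_mul]
  obtain ⟨x, hx⟩ := hmem
  refine ⟨x, α, ?_⟩
  rw [hx, map_inv]
  group

theorem scal_a (α : Fˣ) (x : Heis σ) : (scal (α : F) α.ne_zero x).a = α ^ 2 / σ α * x.a := rfl
theorem scal_b (α : Fˣ) (x : Heis σ) : (scal (α : F) α.ne_zero x).b = α * σ α * x.b := rfl

theorem dg_mem_center (hx : ∃ x : Heis σ, x.a ≠ 0) (α : Fˣ) :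
    dgHom σ α ∈ Subgroup.center (SUJ σ) ↔ (α : F) ^ 3 = 1 ∧ (α : F) * σ α = 1 := by
  have h0 : (α : F) ≠ 0 := α.ne_zero
  have h1 : σ (α : F) ≠ 0 := (map_ne_zero σ).mpr h0
  constructor
  · intro hc
    obtain ⟨x, hx⟩ := hx
    have hx1 : x ≠ 1 := by
      rintro rfl
      exact hx one_a
    have hxb := b_ne_zero hx1
    have h2 := Subgroup.mem_center_iff.mp hc (emb σ x)
    rw [dg_mul_emb] at h2
    have h3 := emb_injective (mul_right_cancel h2)
    have ha : x.a = α ^ 2 / σ α * x.a := congrArg Heis.a h3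
    have hb : x.b = α * σ α * x.b := congrArg Heis.b h3
    have ha' : (α : F) ^ 2 / σ α = 1 := by
      have : (1 - (α : F) ^ 2 / σ α) * x.a = 0 := by linear_combination ha
      rcases mul_eq_zero.1 this with h | h
      · linear_combination -h
      · exact absurd h hx
    have hb' : (α : F) * σ α = 1 := by
      have : (1 - (α : F) * σ α) * x.b = 0 := by linear_combination hb
      rcases mul_eq_zero.1 this with h | h
      · linear_combination -h
      · exact absurd h hxb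
    have h4 : (α : F) ^ 2 = σ α := by
      field_simp at ha'
      exact ha'
    exact ⟨by rw [pow_succ', h4]; exact hb', hb'⟩
  · rintro ⟨h3, h4⟩
    have e1 : σ (α : F) = α ^ 2 := by
      have : (α : F) * (σ α - α ^ 2) = 0 := by linear_combination h4 - h3
      rcases mul_eq_zero.1 this with h | h
      · exact absurd h h0
      · linear_combination h
    have e2 : ((α : F) ^ 2)⁻¹ = α := inv_eq_of_mul_eq_one_left (by rw [← pow_succ']; exact h3)
    have hv : (dgHom σ α).1.1 = Matrix.scalar (Fin 3) (α : F) := by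
      change (dgJ σ α).1.1 = _
      rw [dgJ_val, e1, e2]
      have e3 : (α : F) ^ 2 / α = α := by field_simp
      rw [e3]
      ext i j
      (revert i j; simp only [_root_.Fin.forall_fin_succ, _root_.Matrix.of_apply, _root_.Matrix.cons_val', _root_.Matrix.cons_val_fin_one, _root_.Matrix.scalar_apply, Fin.isValue, _root_.Matrix.cons_val_zero, _root_.Matrix.cons_val_succ, _root_.Fin.succ_zero_eq_one, _root_.Fin.succ_one_eq_two, _root_.IsEmpty.forall_iff, _root_.and_true, _root_.Matrix.diagonal_apply_eq, _root_.ne_eq, _root_.zero_ne_one, _root_.not_false_eq_true, _root_.Matrix.diagonal_apply_ne, Fin.reduceEq, _root_.and_self, _root_.Fin.succ_ne_zero, _root_.true_and])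
    rw [Subgroup.mem_center_iff]
    intro k
    apply Subtype.ext
    apply Subtype.ext
    change k.1.1 * (dgHom σ α).1.1 = (dgHom σ α).1.1 * k.1.1
    rw [hv]
    exact (Matrix.scalar_commute (α : F) (Commute.all _) k.1.1).eq.symm

/-- A group with the rank-one structure of `PSU₃`. -/
structure Mod (σ : F →+* F) [hσ : Fact (∀ x, σ (σ x) = x)] (L : Type*) [Group L] where
  tor : Fˣ →* L
  u : Heis σ →* L
  w : L
  B : Subgroup L
  u_inj : Function.Injective u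
  rel : ∀ (α : Fˣ) (x : Heis σ), tor α * u x = u (scal (α : F) α.ne_zero x) * tor α
  w_sq : w * w = 1
  w_tor : ∀ α : Fˣ, w * tor α * w = tor (su σ α)⁻¹
  tor_ker : ∀ α : Fˣ, tor α = 1 ↔ (α : F) ^ 3 = 1 ∧ (α : F) * σ α = 1
  mem_B : ∀ g, g ∈ B ↔ ∃ (x : Heis σ) (α : Fˣ), g = u x * tor α
  data : Data B u.range w

theorem exists_mod [Finite F] {n : ℕ} (hn : 1 ≤ n) (hs : ∀ x, σ x = x ^ (2 ^ n)) (hF : Nat.card F = (2 ^ n) ^ 2) :
    Nonempty (Mod σ (Cfsg.PSU 3 F (2 ^ n))) := by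
  have hq : 1 < 2 ^ n := Nat.one_lt_two_pow (by omega)
  obtain ⟨x₀, hx₀⟩ := HermHeis.exists_heis_a (σ := σ) hq hs hF 1
  have hx : ∃ x : Heis σ, x.a ≠ 0 := ⟨x₀, by rw [hx₀]; exact one_ne_zero⟩
  obtain ⟨c, hc⟩ := HermHeis.exists_not_fixed (σ := σ) hq hs hF
  obtain ⟨T, T', hTT', hT⟩ := exists_T hc
  let e : SUJ σ ≃* Cfsg.SU 3 F (2 ^ n) :=
    ((conjT hTT').subgroupMap (SUJ σ)).trans (MulEquiv.subgroupCongr (SU_eq_map hs hTT' hT))
  let π : SUJ σ →* Cfsg.PSU 3 F (2 ^ n) :=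
    (QuotientGroup.mk' (Subgroup.center (Cfsg.SU 3 F (2 ^ n)))).comp e.toMonoidHom
  have hπ : Function.Surjective π := (QuotientGroup.mk'_surjective _).comp e.surjective
  have hker : ∀ g, π g = 1 ↔ g ∈ Subgroup.center (SUJ σ) := by
    intro g
    have h1 : π g = 1 ↔ e g ∈ Subgroup.center (Cfsg.SU 3 F (2 ^ n)) := by
      rw [← QuotientGroup.eq_one_iff]
      exact Iff.rfl
    rw [h1, Subgroup.mem_center_iff, Subgroup.mem_center_iff]
    constructor
    · intro h k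
      apply e.injective
      rw [map_mul, map_mul]
      exact h (e k)
    · intro h k
      obtain ⟨k, rfl⟩ := e.surjective k
      rw [← map_mul, ← map_mul, h k]
  have hkB : π.ker ≤ _root_.Cfsg.Agent.SuzukiRankOne.PSUModel.borel σ := by
    intro g hg
    exact center_le_borel hx ((hker g).mp hg)
  have hD := data_map data_SUJ π hπ hkB
  have hinj : ∀ x : Heis σ, π (emb σ x) = 1 → x = 1 := by
    intro x h
    exact eq_one_of_mem_center ((hker _).mp h)
  have hinj2 : Function.Injective (π.comp (emb σ)) := by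
    rw [injective_iff_map_eq_one]
    exact hinj
  have hSr : (π.comp (emb σ)).range = (emb σ).range.map π := by
    rw [MonoidHom.range_comp]
  exact ⟨{
    tor := π.comp (dgHom σ)
    u := π.comp (emb σ)
    w := π (wel σ)
    B := (_root_.Cfsg.Agent.SuzukiRankOne.PSUModel.borel σ).map π
    u_inj := hinj2
    rel := fun α x => by
      show π (dgHom σ α) * π (emb σ x) = π (emb σ (scal (α : F) α.ne_zero x)) * π (dgHom σ α)
      rw [← map_mul, ← map_mul, dg_mul_emb]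
    w_sq := by rw [← map_mul, wel_mul_wel, map_one]
    w_tor := fun α => by
      show π (wel σ) * π (dgHom σ α) * π (wel σ) = π (dgHom σ (su σ α)⁻¹)
      rw [← map_mul, ← map_mul, wel_dg_wel]
    tor_ker := fun α => by
      show π (dgHom σ α) = 1 ↔ _
      rw [hker, dg_mem_center hx]
    mem_B := fun g => by
      constructor
      · rintro ⟨b, hb, rfl⟩
        obtain ⟨x, α, rfl⟩ := (mem_borel_iff b).1 hb
        exact ⟨x, α, by rw [map_mul]; rfl⟩
      · rintro ⟨x, α, rfl⟩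
        exact ⟨emb σ x * dgHom σ α, (mem_borel_iff _).2 ⟨x, α, rfl⟩, by rw [map_mul]; rfl⟩
    data := by rw [hSr]; exact hD }⟩

end Cfsg.Agent.H372.U3
end

-- part: H372/U3Str
section
/-!
# The structure of `PSU₃(2^n)` from the model
-/

set_option autoImplicit false
set_option linter.unusedSectionVars false

namespace Cfsg.Agent.H372.U3

open Cfsg.Agent.LieRecognition Cfsg.Agent.LieRecognition.HermHeis
  Cfsg.Agent.LieRecognition.PSUThreeSylow Cfsg.Agent.LieRecognition.RankOneAbstract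
  Cfsg.Agent.SuzukiRankOne Cfsg.Agent.SuzukiRankOne.PSUModel Cfsg.Agent.AschCrit.PSUTorus

namespace Mod

variable {F : Type*} [Field F] [CharP F 2] {σ : F →+* F} [hσ : Fact (∀ x, σ (σ x) = x)]
  {L : Type*} [Group L] (M : Mod σ L)

include M

theorem w_inv : M.w⁻¹ = M.w := inv_eq_of_mul_eq_one_right M.w_sq

theorem w_ne_one : M.w ≠ 1 := by
  intro h
  apply M.data.w_not_mem
  rw [h]
  exact M.B.one_mem

theorem orderOf_w : orderOf M.w = 2 :=
  orderOf_eq_prime (by rw [pow_two]; exact M.w_sq) M.w_ne_one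

theorem tor_mem (α : Fˣ) : M.tor α ∈ M.B := (M.mem_B _).2 ⟨1, α, by simp⟩

theorem conj_u (α : Fˣ) (x : Heis σ) : M.tor α * M.u x * (M.tor α)⁻¹ = M.u (scal (α : F) α.ne_zero x) := by
  rw [M.rel, mul_inv_cancel_right]

/-- `Q ∩ T = 1` -/
theorem eq_one_of_eq {x : Heis σ} {α : Fˣ} (h : M.u x = M.tor α) : x = 1 := by
  apply M.u_inj
  rw [map_one]
  apply M.data.inter _ ⟨x, rfl⟩
  rw [M.w_inv, h, M.w_tor]
  exact M.tor_mem _

/-- Multiplication in `B`. -/
theorem mul_form (x y : Heis σ) (α β : Fˣ) :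
    M.u x * M.tor α * (M.u y * M.tor β) = M.u (x * scal (α : F) α.ne_zero y) * M.tor (α * β) := by
  rw [map_mul, map_mul]
  calc M.u x * M.tor α * (M.u y * M.tor β) = M.u x * (M.tor α * M.u y) * M.tor β := by group
    _ = _ := by rw [M.rel]; group

theorem pow_form (x : Heis σ) (α : Fˣ) (k : ℕ) : ∃ y : Heis σ, (M.u x * M.tor α) ^ k = M.u y * M.tor (α ^ k) := by
  induction k with
  | zero => exact ⟨1, by simp⟩
  | succ k ih =>
    obtain ⟨y, hy⟩ := ih
    exact ⟨_, by rw [pow_succ, hy, M.mul_form, pow_succ]⟩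

/-- If `u(x) t(α) = 1` then both are trivial. -/
theorem form_eq_one {x : Heis σ} {α : Fˣ} (h : M.u x * M.tor α = 1) : x = 1 ∧ M.tor α = 1 := by
  have h1 : M.u x = M.tor α⁻¹ := by rw [map_inv]; exact eq_inv_of_mul_eq_one_left h
  have h2 := M.eq_one_of_eq h1
  refine ⟨h2, ?_⟩
  rw [h2, map_one, one_mul] at h
  exact h

/-- If a power of `u(x) t(α)` is trivial then so is that of `t(α)`. -/
theorem tor_pow_eq_one {x : Heis σ} {α : Fˣ} {k : ℕ} (h : (M.u x * M.tor α) ^ k = 1) : M.tor α ^ k = 1 := by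
  obtain ⟨y, hy⟩ := M.pow_form x α k
  rw [hy] at h
  rw [← map_pow]
  exact (M.form_eq_one h).2

theorem u_sq (x : Heis σ) : M.u x ^ 2 = M.u (x * x) := by rw [map_mul, pow_two]

theorem u_sq_eq_one_iff (x : Heis σ) : M.u x ^ 2 = 1 ↔ x.a = 0 := by
  rw [M.u_sq, ← HermHeis.mul_self_eq_one_iff, ← map_one M.u, M.u_inj.eq_iff]

theorem u_pow_four (x : Heis σ) : M.u x ^ 4 = 1 := by
  have h : M.u x ^ 4 = M.u (x * x) ^ 2 := by rw [← M.u_sq, ← pow_mul]
  rw [h, M.u_sq_eq_one_iff]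
  simp [CharTwo.add_self_eq_zero]

theorem orderOf_u_four {x : Heis σ} (hx : x.a ≠ 0) : orderOf (M.u x) = 4 := by
  have := orderOf_eq_prime_pow (x := M.u x) (p := 2) (n := 1) (by
    rw [pow_one, M.u_sq_eq_one_iff]; exact hx) (by norm_num; exact M.u_pow_four x)
  simpa using this

/-- Elements moving a nontrivial element of `Q` into `B` lie in `B`. -/
theorem mem_B_of_conj {x : Heis σ} (hx : x ≠ 1) {g : L} (h : g⁻¹ * M.u x * g ∈ M.B) : g ∈ M.B := by
  by_contra hg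
  obtain ⟨s, ⟨y, rfl⟩, hs⟩ := M.data.bruhat g hg
  obtain ⟨b, hb, rfl⟩ : ∃ b ∈ M.B, g = M.u y * M.w * b := ⟨_, hs, by group⟩
  have h1 : M.w⁻¹ * M.u (y⁻¹ * x * y) * M.w ∈ M.B := by
    have h2 : M.w⁻¹ * M.u (y⁻¹ * x * y) * M.w = b * ((M.u y * M.w * b)⁻¹ * M.u x * (M.u y * M.w * b)) * b⁻¹ := by
      rw [map_mul, map_mul, map_inv]
      group
    rw [h2]
    exact M.B.mul_mem (M.B.mul_mem hb h) (M.B.inv_mem hb)
  have h3 := M.data.inter _ ⟨_, rfl⟩ h1
  rw [← map_one M.u, M.u_inj.eq_iff] at h3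
  apply hx
  have h4 : x = y * (y⁻¹ * x * y) * y⁻¹ := by group
  rw [h4, h3]
  group

/-- The torus `T`. -/
def T : Subgroup L := M.tor.range

/-- The unipotent radical `Q`. -/
def Q : Subgroup L := M.u.range

theorem Q_le : M.Q ≤ M.B := M.data.le

theorem T_le : M.T ≤ M.B := by
  rintro _ ⟨α, rfl⟩
  exact M.tor_mem α

theorem Q_inf_T : M.Q ⊓ M.T = ⊥ := by
  rw [eq_bot_iff]
  rintro _ ⟨⟨x, rfl⟩, ⟨α, hα⟩⟩
  rw [Subgroup.mem_bot]
  rw [M.eq_one_of_eq hα.symm, map_one]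

theorem Q_mul_T (g : L) (hg : g ∈ M.B) : ∃ a ∈ M.Q, ∃ b ∈ M.T, g = a * b := by
  obtain ⟨x, α, rfl⟩ := (M.mem_B g).1 hg
  exact ⟨_, ⟨x, rfl⟩, _, ⟨α, rfl⟩, rfl⟩

/-- `|B| = |Q| |T|` -/
theorem card_B [Finite L] : Nat.card M.B = Nat.card M.Q * Nat.card M.T := by
  rw [← Nat.card_prod]
  symm
  apply Nat.card_eq_of_bijective (fun p : M.Q × M.T => (⟨p.1 * p.2, M.B.mul_mem (M.Q_le p.1.2) (M.T_le p.2.2)⟩ : M.B))
  constructor
  · rintro ⟨⟨a, ha⟩, ⟨b, hb⟩⟩ ⟨⟨c, hc⟩, ⟨d, hd⟩⟩ h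
    have h1 : a * b = c * d := congrArg Subtype.val h
    have h2 : c⁻¹ * a = d * b⁻¹ := by
      rw [inv_mul_eq_iff_eq_mul, ← mul_assoc, ← h1, mul_inv_cancel_right]
    have h3 : c⁻¹ * a ∈ M.Q ⊓ M.T :=
      ⟨M.Q.mul_mem (M.Q.inv_mem hc) ha, by rw [h2]; exact M.T.mul_mem hd (M.T.inv_mem hb)⟩
    rw [M.Q_inf_T, Subgroup.mem_bot] at h3
    have h4 : a = c := (inv_mul_eq_one.mp h3).symm
    subst h4
    have h5 : b = d := mul_left_cancel h1
    subst h5
    rfl
  · rintro ⟨g, hg⟩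
    obtain ⟨a, ha, b, hb, rfl⟩ := M.Q_mul_T g hg
    exact ⟨(⟨a, ha⟩, ⟨b, hb⟩), rfl⟩

section finite

variable [Finite F] [Finite L] {q : ℕ} (hq : 1 < q) (hs : ∀ x, σ x = x ^ q) (hF : Nat.card F = q ^ 2)

include hq hs hF

theorem card_Q : Nat.card M.Q = q ^ 3 := by
  rw [← HermHeis.card_heis hq hs hF]
  exact (Nat.card_congr (MonoidHom.ofInjective M.u_inj).toEquiv).symm

theorem index_B : M.B.index = q ^ 3 + 1 := by
  rw [M.data.index]
  rw [show Nat.card M.u.range = Nat.card M.Q from rfl, M.card_Q hq hs hF]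

theorem card_L' : Nat.card L = (q ^ 3 + 1) * (q ^ 3 * Nat.card M.T) := by
  rw [← M.B.index_mul_card, M.index_B hq hs hF, M.card_B, M.card_Q hq hs hF]

omit hs in
theorem even_q : Even q := by
  let _ : Fintype F := Fintype.ofFinite F
  obtain ⟨k, hprime, hcard⟩ := FiniteField.card F 2
  have h3 : 2 ∣ q ^ 2 := by
    rw [← hF, Nat.card_eq_fintype_card, hcard]
    exact dvd_pow_self 2 k.ne_zero
  exact even_iff_two_dvd.2 (Nat.prime_two.dvd_of_dvd_pow h3)

omit hs in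
theorem card_units : Nat.card Fˣ = q ^ 2 - 1 := by
  rw [← hF]
  let _ : Fintype F := Fintype.ofFinite F
  classical
  rw [Nat.card_eq_fintype_card, Nat.card_eq_fintype_card, Fintype.card_units]

omit hs in
theorem odd_card_units : Odd (q ^ 2 - 1) := by
  obtain ⟨t, rfl, -, e⟩ := sq_eq hq.le
  rw [e]
  have h := M.even_q hq hF
  have ht : Odd t := by
    rw [Nat.even_add_one, Nat.not_even_iff_odd] at h
    exact h
  exact ht.mul (ht.add_even even_two)

/-- The kernel of the torus map. -/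
theorem tor_eq_one_iff (α : Fˣ) : M.tor α = 1 ↔ α ^ dd q = 1 := by
  rw [M.tor_ker, dd, pow_gcd_eq_one]
  constructor
  · rintro ⟨h1, h2⟩
    refine ⟨Units.ext (by simpa using h1), Units.ext ?_⟩
    rw [hs] at h2
    rw [Units.val_pow_eq_pow_val, Units.val_one, pow_succ', h2]
  · rintro ⟨h1, h2⟩
    refine ⟨by rw [← Units.val_pow_eq_pow_val, h1, Units.val_one], ?_⟩
    rw [hs, ← pow_succ', ← Units.val_pow_eq_pow_val, h2, Units.val_one]

omit hs in
theorem dd_dvd_units : dd q ∣ q ^ 2 - 1 := by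
  obtain ⟨t, rfl, -, e⟩ := sq_eq hq.le
  rw [e]
  exact (dd_dvd_succ (t + 1)).mul_left _

/-- The order of a torus element. -/
theorem orderOf_tor (α : Fˣ) (hα : dd q ∣ orderOf α) : orderOf (M.tor α) = orderOf α / dd q := by
  apply Nat.dvd_antisymm
  · apply orderOf_dvd_of_pow_eq_one
    rw [← map_pow, M.tor_eq_one_iff hq hs hF, ← pow_mul, Nat.div_mul_cancel hα, pow_orderOf_eq_one]
  · rw [Nat.div_dvd_iff_dvd_mul hα (dd_pos q)]
    have h : M.tor (α ^ orderOf (M.tor α)) = 1 := by rw [map_pow, pow_orderOf_eq_one]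
    rw [M.tor_eq_one_iff hq hs hF, ← pow_mul] at h
    rw [mul_comm]
    exact orderOf_dvd_of_pow_eq_one h

/-- A generator of the torus. -/
theorem exists_gen : ∃ α : Fˣ, orderOf α = q ^ 2 - 1 ∧ (∀ β : Fˣ, β ∈ Subgroup.zpowers α) ∧
    orderOf (M.tor α) = (q ^ 2 - 1) / dd q := by
  obtain ⟨α, hα⟩ := IsCyclic.exists_generator (α := Fˣ)
  have ho : orderOf α = q ^ 2 - 1 := by
    rw [orderOf_eq_card_of_forall_mem_zpowers hα, M.card_units hq hF]
  refine ⟨α, ho, hα, ?_⟩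
  rw [M.orderOf_tor hq hs hF α (by rw [ho]; exact M.dd_dvd_units hq hF), ho]

theorem card_T : Nat.card M.T = (q ^ 2 - 1) / dd q := by
  obtain ⟨α, -, hα, ho⟩ := M.exists_gen hq hs hF
  rw [← ho]
  symm
  have h : M.T = Subgroup.zpowers (M.tor α) := by
    apply le_antisymm
    · rintro _ ⟨β, rfl⟩
      obtain ⟨k, rfl⟩ := Subgroup.mem_zpowers_iff.1 (hα β)
      rw [map_zpow]
      exact Subgroup.zpow_mem_zpowers _ _
    · rw [Subgroup.zpowers_le]
      exact ⟨α, rfl⟩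
  rw [h, Nat.card_zpowers]

theorem odd_card_T : Odd (Nat.card M.T) := by
  rw [M.card_T hq hs hF]
  exact Odd.of_dvd_nat (M.odd_card_units hq hF) (Nat.div_dvd_of_dvd (M.dd_dvd_units hq hF))

/-- The order of `L`. -/
theorem card_L : Nat.card L = q ^ 3 * (q ^ 2 - 1) * (q + 1) * nn q := by
  rw [M.card_L' hq hs hF, M.card_T hq hs hF]
  have h1 := Nat.mul_div_cancel' (M.dd_dvd_units hq hF)
  have h2 := dd_mul_nn hq.le
  have h3 : q ^ 3 + 1 = (q ^ 2 - q + 1) * (q + 1) := by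
    obtain ⟨t, rfl, e, -⟩ := sq_eq hq.le
    rw [e]
    ring
  rw [h3, ← h2]
  calc dd q * nn q * (q + 1) * (q ^ 3 * ((q ^ 2 - 1) / dd q)) =
      (dd q * ((q ^ 2 - 1) / dd q)) * (nn q * (q + 1) * q ^ 3) := by ring
    _ = _ := by rw [h1]; ring

theorem index_Q : M.Q.index = (q ^ 3 + 1) * Nat.card M.T := by
  have h1 := M.Q.index_mul_card
  rw [M.card_L' hq hs hF, M.card_Q hq hs hF] at h1
  apply Nat.eq_of_mul_eq_mul_right (show 0 < q ^ 3 by positivity)
  rw [h1]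
  ring

theorem odd_index_Q : Odd M.Q.index := by
  rw [M.index_Q hq hs hF]
  apply Odd.mul _ (M.odd_card_T hq hs hF)
  exact ((M.even_q hq hF).pow_of_ne_zero (by norm_num)).add_one

theorem isPGroup_Q : IsPGroup 2 M.Q := by
  rintro ⟨_, ⟨x, rfl⟩⟩
  exact ⟨2, Subtype.ext (by simpa only [_root_.Nat.reducePow, _root_.SubmonoidClass.coe_pow, _root_.OneMemClass.coe_one] using M.u_pow_four x)⟩

/-- `Q` as a Sylow subgroup. -/
theorem exists_sylow : ∃ P : Sylow 2 L, (P : Subgroup L) = M.Q :=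
  ⟨(M.isPGroup_Q hq hs hF).toSylow (by
    intro h
    have := M.odd_index_Q hq hs hF
    rw [← Nat.not_even_iff_odd] at this
    exact this (even_iff_two_dvd.2 h)), rfl⟩

/-- Every 2-element is conjugate into `Q`. -/
theorem exists_conj_mem {g : L} {k : ℕ} (hg : g ^ 2 ^ k = 1) : ∃ (c : L) (x : Heis σ), c * g * c⁻¹ = M.u x := by
  obtain ⟨P, hP⟩ := M.exists_sylow hq hs hF
  have h2 : Fact (Nat.Prime 2) := ⟨Nat.prime_two⟩
  have hp : IsPGroup 2 (Subgroup.zpowers g) := by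
    rintro ⟨_, ⟨j, rfl⟩⟩
    refine ⟨k, Subtype.ext ?_⟩
    show (g ^ j) ^ 2 ^ k = 1
    rw [← zpow_natCast, ← zpow_mul, mul_comm, zpow_mul, zpow_natCast, hg, one_zpow]
  obtain ⟨R, hR⟩ := hp.exists_le_sylow
  obtain ⟨c, hc⟩ := MulAction.exists_smul_eq L R P
  have h3 : c * g * c⁻¹ ∈ (P : Subgroup L) := by
    rw [← hc]
    show c * g * c⁻¹ ∈ ((c • R : Sylow 2 L) : Subgroup L)
    rw [Sylow.coe_subgroup_smul, Subgroup.mem_smul_pointwise_iff_exists]
    exact ⟨g, hR (Subgroup.mem_zpowers g), rfl⟩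
  rw [hP] at h3
  obtain ⟨x, hx⟩ := h3
  exact ⟨c, x, hx.symm⟩

/-- A 2-element of `B` lies in `Q`. -/
theorem mem_Q_of_pow {g : L} (hgB : g ∈ M.B) {k : ℕ} (hg : g ^ 2 ^ k = 1) : g ∈ M.Q := by
  obtain ⟨x, α, rfl⟩ := (M.mem_B g).1 hgB
  have h1 := M.tor_pow_eq_one hg
  have h2 : orderOf (M.tor α) ∣ 2 ^ k := orderOf_dvd_of_pow_eq_one h1
  have h3 : orderOf (M.tor α) ∣ Nat.card M.T := Subgroup.orderOf_dvd_natCard M.T ⟨α, rfl⟩
  have h4 : Nat.Coprime (2 ^ k) (Nat.card M.T) :=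
    Nat.Coprime.pow_left k (Nat.coprime_two_left.2 (M.odd_card_T hq hs hF))
  have h5 : orderOf (M.tor α) = 1 := Nat.eq_one_of_dvd_coprimes h4 h2 h3
  rw [orderOf_eq_one_iff] at h5
  rw [h5, mul_one]
  exact ⟨x, rfl⟩

omit hq hF in
theorem norm_mul_eq (α : Fˣ) : (α : F) * σ α = ((α ^ (q + 1) : Fˣ) : F) := by
  rw [hs, Units.val_pow_eq_pow_val, pow_succ']

/-- Norms: every nonzero fixed element is a norm. -/
theorem exists_norm {c : F} (hc : σ c = c) (h0 : c ≠ 0) : ∃ α : Fˣ, (α : F) * σ α = c := by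
  let _ : Fintype F := Fintype.ofFinite F
  have hF' : Fintype.card F = q ^ 2 := by rw [← hF, Nat.card_eq_fintype_card]
  rw [hs] at hc
  obtain ⟨x, hx0, hx⟩ := Cfsg.Agent.LieClassical.HermBasic.exists_norm_eq_ne hF' hc h0
  exact ⟨Units.mk0 x hx0, by rw [hs]; exact hx⟩

/-- **All involutions are conjugate.** -/
theorem isConj_of_involution {s t : L} (h1 : orderOf s = 2) (h2 : orderOf t = 2) : ∃ c, c * s * c⁻¹ = t := by
  obtain ⟨c1, x1, e1⟩ := M.exists_conj_mem hq hs hF (g := s) (k := 1) (by rw [pow_one, ← h1, pow_orderOf_eq_one])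
  obtain ⟨c2, x2, e2⟩ := M.exists_conj_mem hq hs hF (g := t) (k := 1) (by rw [pow_one, ← h2, pow_orderOf_eq_one])
  have aux : ∀ {g c : L} {x : Heis σ}, orderOf g = 2 → c * g * c⁻¹ = M.u x → x.a = 0 ∧ x.b ≠ 0 ∧ σ x.b = x.b := by
    intro g c x hg h
    have h3 : x.a = 0 := by
      rw [← M.u_sq_eq_one_iff, ← h, conj_pow, ← hg, pow_orderOf_eq_one]
      group
    refine ⟨h3, ?_, b_fixed_of_a_eq_zero h3⟩
    apply b_ne_zero
    rintro rfl
    rw [map_one] at h
    have h4 : g = 1 := by simpa only [_root_.conj_eq_one_iff] using h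
    rw [h4, orderOf_one] at hg
    omega
  obtain ⟨a1, b1, f1⟩ := aux h1 e1
  obtain ⟨a2, b2, f2⟩ := aux h2 e2
  obtain ⟨α, hα⟩ := M.exists_norm hq hs hF (c := x2.b / x1.b) (by rw [map_div₀, f1, f2]) (div_ne_zero b2 b1)
  have h5 : scal (α : F) α.ne_zero x1 = x2 := by
    ext
    · rw [scal_a, a1, a2, mul_zero]
    · rw [scal_b, hα, div_mul_cancel₀ _ b1]
  have h6 := M.conj_u α x1
  rw [h5, ← e1, ← e2] at h6
  refine ⟨c2⁻¹ * M.tor α * c1, ?_⟩
  calc c2⁻¹ * M.tor α * c1 * s * (c2⁻¹ * M.tor α * c1)⁻¹ =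
      c2⁻¹ * (M.tor α * (c1 * s * c1⁻¹) * (M.tor α)⁻¹) * c2 := by group
    _ = c2⁻¹ * (c2 * t * c2⁻¹) * c2 := by rw [h6]
    _ = t := by group

/-- Squares of elements of order four. -/
theorem exists_four {z : L} (hz : orderOf z = 2) : ∃ x x' : L, orderOf x = 4 ∧ orderOf x' = 4 ∧
    orderOf (x * x') = 4 ∧ x ^ 2 = z ∧ x' ^ 2 = z := by
  obtain ⟨x₀, hx₀⟩ := HermHeis.exists_heis_a (σ := σ) hq hs hF 1
  obtain ⟨ζ, hζ, hζ1⟩ : ∃ ζ : Fˣ, (ζ : F) * σ ζ = 1 ∧ ζ ≠ 1 := by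
    let _ : Fintype F := Fintype.ofFinite F
    have hF' : Fintype.card F = q ^ 2 := by rw [← hF, Nat.card_eq_fintype_card]
    obtain ⟨c, hc, hc1⟩ := Cfsg.Agent.LieClassical.SUBasic.exists_norm_one hF'
    have h0 : c ≠ 0 := by rintro rfl; rw [zero_pow (by omega)] at hc; exact zero_ne_one hc
    refine ⟨Units.mk0 c h0, by rw [hs, ← pow_succ']; exact hc, fun h => hc1 (congrArg Units.val h)⟩
  obtain ⟨x₁, hx₁⟩ := HermHeis.exists_heis_a (σ := σ) hq hs hF (ζ : F)
  have a0 : x₀.a ≠ 0 := by rw [hx₀]; exact one_ne_zero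
  have a1 : x₁.a ≠ 0 := by rw [hx₁]; exact ζ.ne_zero
  have a2 : (x₀ * x₁).a ≠ 0 := by
    rw [mul_a, hx₀, hx₁]
    intro h
    apply hζ1
    apply Units.ext
    rw [Units.val_one]
    exact (CharTwo.add_eq_zero.mp h).symm
  have e : M.u x₀ ^ 2 = M.u x₁ ^ 2 := by
    rw [M.u_sq, M.u_sq]
    congr 1
    ext
    · simp [CharTwo.add_self_eq_zero]
    · simp [CharTwo.add_self_eq_zero, hx₀, hx₁, hζ]
  have o2 : orderOf (M.u x₀ ^ 2) = 2 := by
    rw [orderOf_pow_of_dvd (by norm_num) (by rw [M.orderOf_u_four a0]; norm_num), M.orderOf_u_four a0]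
  obtain ⟨c, hc⟩ := M.isConj_of_involution hq hs hF o2 hz
  have ho : ∀ y : L, orderOf (c * y * c⁻¹) = orderOf y := by
    intro y
    have := (MulAut.conj c).orderOf_eq y
    simpa using this
  refine ⟨c * M.u x₀ * c⁻¹, c * M.u x₁ * c⁻¹, ?_, ?_, ?_, ?_, ?_⟩
  · rw [ho, M.orderOf_u_four a0]
  · rw [ho, M.orderOf_u_four a1]
  · have : c * M.u x₀ * c⁻¹ * (c * M.u x₁ * c⁻¹) = c * M.u (x₀ * x₁) * c⁻¹ := by rw [map_mul]; group
    rw [this, ho, M.orderOf_u_four a2]
  · rw [conj_pow, hc]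
  · rw [conj_pow, ← e, hc]

/-- Two involutions whose product is an involution, if `q > 2`. -/
theorem exists_klein (h4 : 4 ≤ q) : ∃ s t : L, orderOf s = 2 ∧ orderOf t = 2 ∧ orderOf (s * t) = 2 := by
  have hcard := (HermHeis.card_fixed (σ := σ) hq hs hF).1
  obtain ⟨c, hc, hc0, hc1⟩ : ∃ c : F, σ c = c ∧ c ≠ 0 ∧ c ≠ 1 := by
    by_contra hcon
    push Not at hcon
    have : Nat.card {x : F // σ x = x} ≤ 2 := by
      have hsub : {x : F | σ x = x} ⊆ {0, 1} := by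
        intro x hx
        by_cases h0 : x = 0
        · exact Or.inl h0
        · exact Or.inr (hcon x hx h0)
      have h2 := Set.ncard_le_ncard hsub (Set.toFinite _)
      have h3 : ({0, 1} : Set F).ncard ≤ 2 := (Set.ncard_insert_le (0 : F) {1}).trans (by rw [Set.ncard_singleton])
      change Nat.card {x : F | σ x = x} ≤ 2
      rw [Nat.card_coe_set_eq]
      exact h2.trans h3
    omega
  have aux : ∀ {b : F} (hb : σ b = b), b ≠ 0 → orderOf (M.u (zet b hb)) = 2 := by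
    intro b hb hb0
    apply orderOf_eq_prime
    · rw [M.u_sq_eq_one_iff]
      rfl
    · rw [← map_one M.u, Ne, M.u_inj.eq_iff]
      intro h
      exact hb0 (congrArg Heis.b h)
  have h1 : σ (1 : F) = 1 := map_one σ
  have h1c : σ (1 + c) = 1 + c := by rw [map_add, h1, hc]
  refine ⟨M.u (zet 1 h1), M.u (zet c hc), aux h1 one_ne_zero, aux hc hc0, ?_⟩
  have : M.u (zet 1 h1) * M.u (zet c hc) = M.u (zet (1 + c) h1c) := by
    rw [← map_mul]
    congr 1
    ext
    · simp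
    · simp
  rw [this]
  apply aux h1c
  intro h
  exact hc1 (CharTwo.add_eq_zero.mp h).symm

/-- Torus elements with a fixed parameter. -/
theorem w_inverts {α : Fˣ} (hα : su σ α = α) : M.w * M.tor α * M.w⁻¹ = (M.tor α)⁻¹ := by
  rw [M.w_inv, M.w_tor, hα, map_inv]

/-- An element of the torus of order a prime divisor of `q - 1`. -/
theorem exists_prime_tor {r : ℕ} (hr : r.Prime) (hrq : r ∣ q - 1) :
    ∃ α : Fˣ, orderOf α = r ∧ orderOf (M.tor α) = r ∧ su σ α = α := by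
  have hrd : r ∣ Nat.card Fˣ := by
    rw [M.card_units hq hF]
    obtain ⟨t, rfl, -, e⟩ := sq_eq hq.le
    rw [e]
    rw [Nat.add_sub_cancel] at hrq
    exact hrq.mul_right _
  have : Fact r.Prime := ⟨hr⟩
  obtain ⟨α, hα⟩ := exists_prime_orderOf_dvd_card' r hrd
  have hfix : su σ α = α := by
    apply Units.ext
    show σ (α : F) = α
    rw [hs]
    obtain ⟨k, hk⟩ := hrq
    have h1 : α ^ (q - 1) = 1 := by rw [hk, pow_mul, ← hα, pow_orderOf_eq_one, one_pow]
    have h2 : (α : F) ^ (q - 1) = 1 := by rw [← Units.val_pow_eq_pow_val, h1, Units.val_one]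
    calc (α : F) ^ q = α ^ (q - 1 + 1) := by rw [Nat.sub_add_cancel hq.le]
      _ = α := by rw [pow_succ, h2, one_mul]
  refine ⟨α, hα, ?_, hfix⟩
  apply orderOf_eq_prime
  · rw [← map_pow, ← hα, pow_orderOf_eq_one, map_one]
  · intro h
    rw [M.tor_ker] at h
    have h1 : (α : F) * α = 1 := by
      have := h.2
      rwa [show σ (α : F) = α from congrArg Units.val hfix] at this
    have h2 : (α : F) = 1 := by
      have := h.1
      rwa [pow_succ, pow_two, h1, one_mul] at this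
    have h3 : α = 1 := Units.ext h2
    rw [h3, orderOf_one] at hα
    exact hr.one_lt.ne hα

/-- For the covering lemma: an element of order four whose square inverts an element of order `r`. -/
theorem exists_four_inverting {r : ℕ} (hr : r.Prime) (hrq : r ∣ q - 1) :
    ∃ x y : L, x ^ 4 = 1 ∧ y ^ r = 1 ∧ y ≠ 1 ∧ x ^ 2 * y * (x ^ 2)⁻¹ = y⁻¹ := by
  obtain ⟨x, -, hx, -, -, hxw, -⟩ := M.exists_four hq hs hF M.orderOf_w
  obtain ⟨α, -, hα, hfix⟩ := M.exists_prime_tor hq hs hF hr hrq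
  refine ⟨x, M.tor α, ?_, ?_, ?_, ?_⟩
  · rw [← hx, pow_orderOf_eq_one]
  · rw [← hα, pow_orderOf_eq_one]
  · intro h
    rw [h, orderOf_one] at hα
    exact hr.one_lt.ne hα
  · rw [hxw, M.w_inverts hq hs hF hfix]

end finite

end Mod

end Cfsg.Agent.H372.U3
end

private theorem dce_9b4294bacfda : _root_.True := by
  try have : _root_.True := by simp only [_root_.Cfsg.Agent.AschCrit.PSUTorus.scal.congr_simp]
  try have : _root_.True := by simp only [_root_.Cfsg.Agent.H372.U3.dgHom.congr_simp]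
  try have : _root_.True := by simp only [_root_.Cfsg.Agent.LieRecognition.HermHeis.zet.congr_simp]
  try have : _root_.True := by simp only [_root_.Cfsg.Agent.H372.U3.dd.eq_1]
  exact _root_.True.intro
end
end
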