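import Cfsg.Agent.S0333
import Cfsg.Agent.S0324
import Cfsg.Agent.H896.SzOddFact
import Cfsg.Agent.FastGrp
import Cfsg.Agent.Prune
set_option linter.all false
prune_inst 0x7f00000000000000000000000000000000000000000000000000000000000000000000000000000000000000000000000000000000000000000000000000000000000000000000000000000000000000003fffffffffffffffffffffffffffbeffbdffffffff
open scoped Cfsg.Agent.FastGrp

/-!
# Orders of the elements of odd order of the Suzuki groups
-/

set_option autoImplicit false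

namespace Cfsg.Agent.H372.SzSpec

open Subgroup

/-- An abelian subgroup of order divisible by `p` and of index prime to `p` which contains the centralizers of its
nontrivial elements. -/
theorem orderOf_dvd_of {G : Type*} [Group G] [Finite G] (U : Subgroup G) {p : ℕ} (hp : p.Prime)
    (hi : ¬ p ∣ U.index) (hU : ∀ u ∈ U, u ≠ 1 → centralizer ({u} : Set G) ≤ U) {x : G} (hx : p ∣ orderOf x) :
    orderOf x ∣ Nat.card U := by
  have hpf : Fact p.Prime := ⟨hp⟩
  -- an element of order `p`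
  obtain ⟨e, he⟩ := hx
  have he0 : e ≠ 0 := by
    rintro rfl
    have := orderOf_pos x
    omega
  have hy : orderOf (x ^ e) = p := by
    rw [orderOf_pow_of_dvd he0 (by rw [he]; exact dvd_mul_left _ _), he, Nat.mul_div_cancel _ (Nat.pos_of_ne_zero he0)]
  have hpz : IsPGroup p (zpowers (x ^ e)) := by
    rw [IsPGroup.iff_card]
    exact ⟨1, by rw [Nat.card_zpowers, hy, pow_one]⟩
  obtain ⟨R, hR⟩ := hpz.exists_le_sylow
  -- a Sylow subgroup inside `U`
  obtain ⟨P0⟩ : Nonempty (Sylow p U) := inferInstance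
  have hP : IsPGroup p ((P0 : Subgroup U).map U.subtype) := P0.isPGroup'.map _
  have hPi : ¬ p ∣ ((P0 : Subgroup U).map U.subtype).index := by
    rw [index_map_subtype]
    intro h
    rcases (Nat.Prime.dvd_mul hp).1 h with h | h
    · exact P0.not_dvd_index h
    · exact hi h
  let P : Sylow p G := hP.toSylow hPi
  obtain ⟨c, hc⟩ := MulAction.exists_smul_eq G R P
  have h3 : c * x ^ e * c⁻¹ ∈ (P : Subgroup G) := by
    rw [← hc]
    show c * x ^ e * c⁻¹ ∈ ((c • R : Sylow p G) : Subgroup G)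
    rw [Sylow.coe_subgroup_smul, Subgroup.mem_smul_pointwise_iff_exists]
    exact ⟨x ^ e, hR (mem_zpowers _), rfl⟩
  have h4 : c * x ^ e * c⁻¹ ∈ U := by
    have h5 : c * x ^ e * c⁻¹ ∈ (P0 : Subgroup U).map U.subtype := h3
    obtain ⟨u, -, hu⟩ := h5
    rw [← hu]
    exact u.2
  have h5 : c * x ^ e * c⁻¹ ≠ 1 := by
    intro h
    have : x ^ e = 1 := by
      have h6 : x ^ e = c⁻¹ * (c * x ^ e * c⁻¹) * c := by group
      rw [h6, h]
      group
    rw [this, orderOf_one] at hy
    exact hp.one_lt.ne hy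
  have h6 : c * x * c⁻¹ ∈ U := by
    apply hU _ h4 h5
    rw [mem_centralizer_singleton_iff]
    calc c * x * c⁻¹ * (c * x ^ e * c⁻¹) = c * (x * x ^ e) * c⁻¹ := by group
      _ = c * (x ^ e * x) * c⁻¹ := by rw [← pow_succ, ← pow_succ']
      _ = c * x ^ e * c⁻¹ * (c * x * c⁻¹) := by group
  have h7 : orderOf (c * x * c⁻¹) = orderOf x := by
    have := (MulAut.conj c).orderOf_eq x
    rwa [MulAut.conj_apply] at this
  rw [← h7]
  exact Subgroup.orderOf_dvd_natCard U h6

section

variable {F : Type*} [Field F] [Fintype F] {m : ℕ} (hm : 1 ≤ m) (hF : Fintype.card F = 2 ^ (2 * m + 1))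

/-- the torus -/
def torHom (hF : Fintype.card F = 2 ^ (2 * m + 1)) : Fˣ →* Cfsg.Sz F m where
  toFun := H896.tor hF
  map_one' := H896.tor_one hF
  map_mul' k l := (H896.tor_mul hF k l).symm

theorem torHom_inj (hF : Fintype.card F = 2 ^ (2 * m + 1)) : Function.Injective (torHom hF) :=
  fun _ _ h => H896.tor_inj hF h

theorem card_torHom (hF : Fintype.card F = 2 ^ (2 * m + 1)) :
    Nat.card (torHom hF).range = 2 ^ (2 * m + 1) - 1 := by
  rw [← Nat.card_congr (MonoidHom.ofInjective (torHom_inj hF)).toEquiv, Nat.card_units, Nat.card_eq_fintype_card, hF]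

include hm

/-- The number theory. -/
theorem arith : ∃ s, 2 ^ (m + 1) = s ∧ s * s = 2 * 2 ^ (2 * m + 1) ∧ 4 ≤ s ∧ s ≤ 2 ^ (2 * m + 1) ∧
    (2 ^ (2 * m + 1)) ^ 2 + 1 = (2 ^ (2 * m + 1) + s + 1) * (2 ^ (2 * m + 1) - s + 1) := by
  refine ⟨_, rfl, ?_, ?_, ?_, ?_⟩
  · rw [← pow_add, ← pow_succ']; congr 1; omega
  · calc 4 = 2 ^ 2 := by norm_num
      _ ≤ 2 ^ (m + 1) := Nat.pow_le_pow_right (by norm_num) (by omega)
  · exact Nat.pow_le_pow_right (by norm_num) (by omega)
  · have h1 : 2 ^ (m + 1) * 2 ^ (m + 1) = 2 * 2 ^ (2 * m + 1) := by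
      rw [← pow_add, ← pow_succ']; congr 1; omega
    have h2 : 2 ^ (m + 1) ≤ 2 ^ (2 * m + 1) := Nat.pow_le_pow_right (by norm_num) (by omega)
    obtain ⟨t, ht⟩ := Nat.exists_eq_add_of_le h2
    rw [ht, Nat.add_sub_cancel_left]
    rw [ht] at h1
    nlinarith

include hF

/-- **The orders of the elements of odd order.** -/
theorem spec : (∀ x : Cfsg.Sz F m, Odd (orderOf x) → orderOf x ∣ 2 ^ (2 * m + 1) - 1 ∨
      orderOf x ∣ 2 ^ (2 * m + 1) + 2 ^ (m + 1) + 1 ∨ orderOf x ∣ 2 ^ (2 * m + 1) - 2 ^ (m + 1) + 1) ∧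
    (∃ x : Cfsg.Sz F m, orderOf x = 2 ^ (2 * m + 1) - 1) ∧
    (∃ x : Cfsg.Sz F m, orderOf x = 2 ^ (2 * m + 1) + 2 ^ (m + 1) + 1) ∧
    (∃ x : Cfsg.Sz F m, orderOf x = 2 ^ (2 * m + 1) - 2 ^ (m + 1) + 1) := by
  obtain ⟨s, hs, hss, hs4, hsQ, hfac⟩ := arith hm
  rw [hs]
  have h333 := S0333.result hm hF
  rw [hs] at h333
  obtain ⟨U1, hU1c, hU1, hU1z, -⟩ := h333 (2 ^ (2 * m + 1) + s + 1) (Or.inl rfl)
  obtain ⟨U2, hU2c, hU2, hU2z, -⟩ := h333 (2 ^ (2 * m + 1) - s + 1) (Or.inr rfl)
  have hcard := S0324.result hm hF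
  have h8 : 8 ≤ 2 ^ (2 * m + 1) := by
    calc 8 = 2 ^ 3 := by norm_num
      _ ≤ 2 ^ (2 * m + 1) := Nat.pow_le_pow_right (by norm_num) (by omega)
  have hQe : Even (2 ^ (2 * m + 1)) := Nat.even_pow.2 ⟨even_two, by omega⟩
  have hse : Even s := by rw [← hs]; exact Nat.even_pow.2 ⟨even_two, by omega⟩
  obtain ⟨Q, hQ⟩ : ∃ Q, 2 ^ (2 * m + 1) = Q := ⟨_, rfl⟩
  rw [hQ] at hss hsQ hfac hU1 hU2 hcard h8 hQe ⊢
  refine ⟨?_, ?_, ?_, ?_⟩
  · intro x hx
    by_cases hx1 : orderOf x = 1
    · left; rw [hx1]; exact one_dvd _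
    obtain ⟨p, hp, hpx⟩ := Nat.exists_prime_and_dvd hx1
    have hp2 : p ≠ 2 := by
      rintro rfl
      rw [← Nat.not_even_iff_odd] at hx
      exact hx (even_iff_two_dvd.2 hpx)
    have hpc : ∀ {a : ℕ}, p ∣ 2 ^ a → False := fun {a} h =>
      hp2 ((Nat.prime_dvd_prime_iff_eq hp Nat.prime_two).1 (hp.dvd_of_dvd_pow h))
    have hp2d : ¬ p ∣ 2 := fun h => hp2 ((Nat.prime_dvd_prime_iff_eq hp Nat.prime_two).1 h)
    have hpQ : ¬ p ∣ Q := fun h => hpc (hQ ▸ h)
    have hps : ¬ p ∣ s := fun h => hpc (hs ▸ h)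
    have hpG : p ∣ Q ^ 2 * ((Q + s + 1) * (Q - s + 1)) * (Q - 1) := by
      rw [← hfac, ← hcard]
      exact hpx.trans (orderOf_dvd_natCard x)
    -- pairwise coprime
    have c1 : p ∣ Q + s + 1 → p ∣ Q - s + 1 → False := by
      intro h1 h2
      have h3 := Nat.dvd_sub h1 h2
      have h4 : Q + s + 1 - (Q - s + 1) = 2 * s := by omega
      rw [h4] at h3
      rcases (Nat.Prime.dvd_mul hp).1 h3 with h5 | h5
      · exact hp2d h5
      · exact hps h5
    have c2 : p ∣ Q ^ 2 + 1 → p ∣ Q - 1 → False := by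
      intro h1 h2
      have h3 : p ∣ Q ^ 2 - 1 := h2.trans (by
        obtain ⟨t, rfl⟩ : ∃ t, Q = t + 1 := ⟨Q - 1, by omega⟩
        exact ⟨t + 2, by
          rw [Nat.add_sub_cancel]
          apply Nat.sub_eq_of_eq_add
          ring⟩)
      have h4 := Nat.dvd_sub h1 h3
      have h5 : 1 ≤ Q ^ 2 := Nat.one_le_pow _ _ (by omega)
      have h6 : Q ^ 2 + 1 - (Q ^ 2 - 1) = 2 := by omega
      rw [h6] at h4
      exact hp2d h4
    rcases (Nat.Prime.dvd_mul hp).1 hpG with h | h
    · rcases (Nat.Prime.dvd_mul hp).1 h with h | h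
      · exact absurd (hp.dvd_of_dvd_pow h) hpQ
      · rcases (Nat.Prime.dvd_mul hp).1 h with h | h
        · right; left
          rw [← hU1]
          apply orderOf_dvd_of U1 hp _ (fun u hu hu1 => (hU1z u hu hu1).le) hpx
          intro hi
          have e1 := U1.index_mul_card
          rw [hU1, hcard, hfac] at e1
          have e2 : U1.index = Q ^ 2 * (Q - s + 1) * (Q - 1) := by
            apply Nat.eq_of_mul_eq_mul_right (show 0 < Q + s + 1 by omega)
            rw [e1]
            ring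
          rw [e2] at hi
          rcases (Nat.Prime.dvd_mul hp).1 hi with hi | hi
          · rcases (Nat.Prime.dvd_mul hp).1 hi with hi | hi
            · exact hpQ (hp.dvd_of_dvd_pow hi)
            · exact c1 h hi
          · exact c2 (by rw [hfac]; exact h.mul_right _) hi
        · right; right
          rw [← hU2]
          apply orderOf_dvd_of U2 hp _ (fun u hu hu1 => (hU2z u hu hu1).le) hpx
          intro hi
          have e1 := U2.index_mul_card
          rw [hU2, hcard, hfac] at e1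
          have e2 : U2.index = Q ^ 2 * (Q + s + 1) * (Q - 1) := by
            apply Nat.eq_of_mul_eq_mul_right (show 0 < Q - s + 1 by omega)
            rw [e1]
            ring
          rw [e2] at hi
          rcases (Nat.Prime.dvd_mul hp).1 hi with hi | hi
          · rcases (Nat.Prime.dvd_mul hp).1 hi with hi | hi
            · exact hpQ (hp.dvd_of_dvd_pow hi)
            · exact c1 hi h
          · exact c2 (by rw [hfac]; exact h.mul_left _) hi
    · left
      have hT := card_torHom hF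
      rw [hQ] at hT
      rw [← hT]
      apply orderOf_dvd_of (torHom hF).range hp _ _ hpx
      · intro hi
        have e1 := (torHom hF).range.index_mul_card
        rw [hT, hcard] at e1
        have e2 : (torHom hF).range.index = Q ^ 2 * (Q ^ 2 + 1) := by
          apply Nat.eq_of_mul_eq_mul_right (show 0 < Q - 1 by omega)
          rw [e1]
        rw [e2] at hi
        rcases (Nat.Prime.dvd_mul hp).1 hi with hi | hi
        · exact hpQ (hp.dvd_of_dvd_pow hi)
        · exact c2 hi h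
      · rintro _ ⟨k, rfl⟩ hk y hy
        rw [mem_centralizer_singleton_iff] at hy
        obtain ⟨j, hj⟩ := H896.tor_cent hm hF (k := k) (by
          rintro rfl
          exact hk (map_one _)) hy
        exact ⟨j, hj.symm⟩
  · obtain ⟨g, hg⟩ := IsCyclic.exists_ofOrder_eq_natCard (α := Fˣ)
    refine ⟨torHom hF g, ?_⟩
    rw [orderOf_injective _ (torHom_inj hF), hg, Nat.card_units, Nat.card_eq_fintype_card, hF, hQ]
  · obtain ⟨g, hg⟩ := IsCyclic.exists_ofOrder_eq_natCard (α := U1)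
    exact ⟨g, by rw [Subgroup.orderOf_coe, hg, hU1]⟩
  · obtain ⟨g, hg⟩ := IsCyclic.exists_ofOrder_eq_natCard (α := U2)
    exact ⟨g, by rw [Subgroup.orderOf_coe, hg, hU2]⟩

end

end Cfsg.Agent.H372.SzSpec
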