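import Cfsg.Agent.H254.FxTools
import Cfsg.Agent.H104.IrrSU
import Cfsg.Agent.H880.ClPsuE
import Cfsg.Agent.S0280
import Cfsg.Agent.Prune
set_option linter.all false
prune_inst 0x7f00000000000000000000000000000000000000000000000000000000000000000000000000000000000000000000000000000000000000000000000000000000000000000000000000000000000000003fffffffffffffffffffffffffffbeffbdffffffff
open scoped Cfsg.Agent.FastGrp

/-!
# Fixity 3 and 4: `PSU_n(q)`, tools (rows for helper254)

* `conj_negq` : an element `x` of prime order `r ∤ q` of `SU_n(q)` is conjugate to `x ^ j`, `j ≡ -q mod r`;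
* `inj_block` : blocks inject into `PSU_n(q)`;
* `bad_block` : elements of a block commute with the complementary block.
-/

set_option autoImplicit false
set_option linter.unusedSectionVars false

namespace Cfsg.Agent.H372.FxU

open Matrix Subgroup Cfsg Cfsg.Agent.H254.Fx
open Cfsg.Agent.LieClassical.HermBasic Cfsg.Agent.LieClassical.HermSiegel
open Cfsg.Agent.ClassicalGeometry.PSUAutBasic (pr pr_surjective pr_eq_one_iff exists_scalar_of_mem_center)
open Cfsg.Agent.Phan (ext ext_injective ext_comm emb emb_injective sh sh_injective extM extM_mulVec_of_notMem)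

variable {F : Type} [Field F] [Fintype F] {q n : ℕ}

section Conj

open Cfsg.Agent.H193 Cfsg.Agent.H193.Types Cfsg.Agent.H193.Count Cfsg.Agent.H104 Cfsg.Agent.H104.AtomTypes
  Cfsg.Agent.H104.AtomGU Cfsg.Agent.H104.IrrSU

/-- **`x ~ x ^ j`, `j ≡ -q`** -/
theorem conj_negq (hF : Fintype.card F = q ^ 2) {r : ℕ} (hr : r.Prime) (hrF : (r : F) ≠ 0) {x : ↥(SU n F q)}
    (hx : x ^ r = 1) (hx1 : x ≠ 1) :
    ∃ (u : ↥(SU n F q)) (j : ℕ), (j : ZMod r) = -(q : ZMod r) ∧ u * x * u⁻¹ = x ^ j := by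
  have : Fact r.Prime := ⟨hr⟩
  obtain ⟨ζ, hζ⟩ := ClassCount.exists_root (F := F) hr hrF
  have hq0 : (q : ZMod r) ≠ 0 := by
    intro h
    apply RankBound.card_ne_zero (p := r) (F := F) hrF
    rw [hF, Nat.cast_pow, h, zero_pow (by norm_num)]
  obtain ⟨w, hw⟩ := ClassCount.exists_unit hq0
  obtain ⟨j, hj⟩ : ∃ j : ℕ, (j : ZMod r) = (((-w : (ZMod r)ˣ)) : ZMod r) := ⟨_, ZMod.natCast_zmod_val _⟩
  have hj0 : (j : ZMod r) ≠ 0 := by rw [hj]; exact (-w : (ZMod r)ˣ).ne_zero
  have hxG : (suHom n q F x) ^ r = 1 := by rw [← map_pow, hx, map_one]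
  have hxM : ((suHom n q F x : GL (Fin n) F) : Matrix (Fin n) (Fin n) F) ^ r = 1 := by
    rw [← Units.val_pow_eq_pow_val, hxG, Units.val_one]
  have h := su_conj hζ hF w hw (n := n) (y := x) (z := x ^ j) hx
    (by rw [← pow_mul, mul_comm, pow_mul, hx, one_pow]) hx1 (by
      funext d
      have h1 := ty_pow hζ hxM hj0 ((((-w)⁻¹ : (ZMod r)ˣ) : ZMod r) * d)
      have h2 : (j : ZMod r) * ((((-w)⁻¹ : (ZMod r)ˣ) : ZMod r) * d) = d := by
        rw [hj, ← mul_assoc, ← Units.val_mul, mul_inv_cancel, Units.val_one, one_mul]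
      rw [h2] at h1
      rw [map_pow, Units.val_pow_eq_pow_val, h1]
      have h3 := inv_gu hζ hF w hw (suHom_mem x) hxG ((((-w)⁻¹ : (ZMod r)ˣ) : ZMod r) * d)
      rw [← hj, h2] at h3
      exact h3)
  obtain ⟨u, hu⟩ := isConj_iff.1 h
  refine ⟨u, j, ?_, hu⟩
  rw [hj, Units.val_neg, hw]

end Conj

/-! ### Blocks -/

/-- a matrix in a block fixes the other coordinates -/
theorem ext_mat_apply (hF : Fintype.card F = q ^ 2) {m : ℕ} {e : Fin m → Fin n} (he : Function.Injective e)
    {x : Fin n} (hx : ∀ i, x ≠ e i) (a : ↥(SU m F q)) (v : Fin n → F) : act (_root_.Cfsg.Agent.Phan.ext hF e he a) v x = v x :=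
  extM_mulVec_of_notMem hx _ v

/-- proper blocks inject into `PSU` -/
theorem inj_block (hF : Fintype.card F = q ^ 2) (hn : 3 ≤ n) {m : ℕ} {e : Fin m → Fin n} (he : Function.Injective e)
    {x : Fin n} (hx : ∀ i, x ≠ e i) : Function.Injective ((pr n F q).comp (_root_.Cfsg.Agent.Phan.ext hF e he)) := by
  rw [injective_iff_map_eq_one]
  intro a ha
  have h1 : pr n F q (_root_.Cfsg.Agent.Phan.ext hF e he a) = 1 := ha
  rw [pr_eq_one_iff] at h1
  obtain ⟨c, -, -, hc⟩ := exists_scalar_of_mem_center hF hn h1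
  have h2 := ext_mat_apply hF he hx a (Pi.single x 1)
  rw [hc, Pi.smul_apply, Pi.single_eq_same, smul_eq_mul, mul_one] at h2
  apply ext_injective hF he
  rw [map_one]
  apply ext_act
  intro v
  rw [hc, h2, one_smul, act_one]

theorem inj_emb (hF : Fintype.card F = q ^ 2) (hn : 3 ≤ n) {k m : ℕ} (h : k + m ≤ n) (h1 : m < n) :
    Function.Injective ((pr n F q).comp (emb hF k h : ↥(SU m F q) →* ↥(SU n F q))) := by
  by_cases hk : k = 0
  · subst hk
    refine inj_block hF hn (sh_injective 0 h) (x := ⟨m, h1⟩) fun i hi => ?_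
    have := congrArg Fin.val hi
    simp only [sh] at this
    omega
  · refine inj_block hF hn (sh_injective k h) (x := ⟨0, by omega⟩) fun i hi => ?_
    have := congrArg Fin.val hi
    simp only [sh] at this
    omega

theorem emb_comm (hF : Fintype.card F = q ^ 2) {k m : ℕ} (h0 : 0 + k ≤ n) (h : k + m ≤ n) (a : ↥(SU k F q))
    (b : ↥(SU m F q)) : emb hF 0 h0 a * emb hF k h b = emb hF k h b * emb hF 0 h0 a := by
  refine ext_comm hF _ _ (fun i j hij => ?_) a b
  have := congrArg Fin.val hij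
  simp only [sh] at this
  omega

/-- the order of the smaller groups divides -/
theorem card_dvd (hF : Fintype.card F = q ^ 2) {m : ℕ} (h : m ≤ n) :
    Nat.card ↥(SU m F q) ∣ Nat.card ↥(SU n F q) :=
  Subgroup.card_dvd_of_injective (emb hF 0 (by omega : 0 + m ≤ n)) (emb_injective hF 0 _)

/-! ### Orders -/

theorem sq_sub (hF : Fintype.card F = q ^ 2) : q ^ 2 - 1 = (q - 1) * (q + 1) := by
  obtain ⟨v, rfl⟩ : ∃ v, q = v + 1 := ⟨q - 1, by have := two_le hF; omega⟩
  rw [Nat.add_sub_cancel]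
  have : (v + 1) ^ 2 = v * (v + 1 + 1) + 1 := by ring
  omega

theorem card_two (hF : Fintype.card F = q ^ 2) : Nat.card ↥(SU 2 F q) = q * (q ^ 2 - 1) := by
  have h := S0278.result hF 2 (by norm_num)
  rw [Finset.prod_range_succ, Finset.prod_range_succ, Finset.prod_range_zero] at h
  simp only [Nat.even_iff] at h
  norm_num only [_root_.pow_one, _root_.ite_true, _root_.one_mul, _root_.ite_false] at h
  have h2 : (q + 1) * Nat.card ↥(SU 2 F q) = (q + 1) * (q * (q ^ 2 - 1)) := by rw [h]; ring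
  exact Nat.eq_of_mul_eq_mul_left (by omega) h2

theorem card_three (hF : Fintype.card F = q ^ 2) :
    Nat.card ↥(SU 3 F q) = q ^ 3 * ((q ^ 2 - 1) * (q ^ 3 + 1)) := by
  have h := S0278.result hF 3 (by norm_num)
  rw [Finset.prod_range_succ, Finset.prod_range_succ, Finset.prod_range_succ, Finset.prod_range_zero] at h
  simp only [Nat.even_iff] at h
  norm_num only [_root_.pow_one, _root_.ite_true, _root_.one_mul, _root_.ite_false] at h
  have h2 : (q + 1) * Nat.card ↥(SU 3 F q) = (q + 1) * (q ^ 3 * ((q ^ 2 - 1) * (q ^ 3 + 1))) := by rw [h]; ring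
  exact Nat.eq_of_mul_eq_mul_left (by omega) h2

theorem card_four (hF : Fintype.card F = q ^ 2) :
    Nat.card ↥(SU 4 F q) = q ^ 6 * ((q ^ 2 - 1) * (q ^ 3 + 1) * (q ^ 4 - 1)) := by
  have h := S0278.result hF 4 (by norm_num)
  rw [Finset.prod_range_succ, Finset.prod_range_succ, Finset.prod_range_succ, Finset.prod_range_succ,
    Finset.prod_range_zero] at h
  simp only [Nat.even_iff] at h
  norm_num only [_root_.pow_one, _root_.ite_true, _root_.one_mul, _root_.ite_false] at h
  have h2 : (q + 1) * Nat.card ↥(SU 4 F q) = (q + 1) * (q ^ 6 * ((q ^ 2 - 1) * (q ^ 3 + 1) * (q ^ 4 - 1))) := by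
    rw [h]; ring
  exact Nat.eq_of_mul_eq_mul_left (by omega) h2

theorem card_six (hF : Fintype.card F = q ^ 2) :
    Nat.card ↥(SU 6 F q) = q ^ 15 * ((q ^ 2 - 1) * (q ^ 3 + 1) * (q ^ 4 - 1) * (q ^ 5 + 1) * (q ^ 6 - 1)) := by
  have h := S0278.result hF 6 (by norm_num)
  rw [Finset.prod_range_succ, Finset.prod_range_succ, Finset.prod_range_succ, Finset.prod_range_succ,
    Finset.prod_range_succ, Finset.prod_range_succ, Finset.prod_range_zero] at h
  simp only [Nat.even_iff] at h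
  norm_num only [_root_.pow_one, _root_.ite_true, _root_.one_mul, _root_.ite_false] at h
  have h2 : (q + 1) * Nat.card ↥(SU 6 F q) =
      (q + 1) * (q ^ 15 * ((q ^ 2 - 1) * (q ^ 3 + 1) * (q ^ 4 - 1) * (q ^ 5 + 1) * (q ^ 6 - 1))) := by
    rw [h]; ring
  exact Nat.eq_of_mul_eq_mul_left (by omega) h2

/-- `|PSU_n| * d = |SU_n|` -/
theorem card_psu (hF : Fintype.card F = q ^ 2) (hn : 3 ≤ n) :
    Nat.card (PSU n F q) * Nat.gcd n (q + 1) = Nat.card ↥(SU n F q) := by
  rw [← S0279.result hF n hn]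
  have h3 : Nat.card (PSU n F q) = (Subgroup.center ↥(SU n F q)).index := rfl
  rw [h3, mul_comm, Subgroup.card_mul_index]

/-- `8 ∣ q ^ 2 - 1` for odd `q` -/
theorem eight_dvd {q : ℕ} (hq : Odd q) : 8 ∣ q ^ 2 - 1 := Nat.eight_dvd_sq_sub_one_of_odd hq

end Cfsg.Agent.H372.FxU
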